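import Mathlib

/-! # Hochschild's formula for the p-th power of `f • e` -/

set_option autoImplicit false
set_option linter.style.haveILetI false

noncomputable section

open Finset

namespace Groth.Agent.Hochschild

variable {A B : Type*} [CommRing A] [CommRing B] [Algebra A B]

lemma derivation_pow_leibniz (p : ℕ) [Fact p.Prime] [CharP B p] (D : Derivation A B B) (a b : B) :
    (⇑D)^[p] (a * b) = a * (⇑D)^[p] b + b * (⇑D)^[p] a := by
  haveI : CharP (Module.End B B) p :=
    charP_of_injective_algebraMap (R := B) (fun x y h => by simpa using LinearMap.congr_fun h 1) p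
  let E := B →+ B
  let d : AddMonoid.End B := (D : B →ₗ[A] B).toAddMonoidHom
  haveI : CharP (AddMonoid.End B) p := ⟨fun n => by
    refine Iff.trans ?_ (CharP.cast_eq_zero_iff B p n)
    constructor
    · intro h
      have := DFunLike.congr_fun h (1 : B)
      simpa using this
    · intro h
      ext x
      show (n : AddMonoid.End B) x = 0
      rw [AddMonoid.End.natCast_apply, nsmul_eq_mul, h, zero_mul]⟩
  let L : AddMonoid.End (AddMonoid.End B) := AddMonoidHom.mulLeft d
  let R : AddMonoid.End (AddMonoid.End B) := AddMonoidHom.mulRight d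
  haveI : CharP (AddMonoid.End (AddMonoid.End B)) p := ⟨fun n => by
    refine Iff.trans ?_ (CharP.cast_eq_zero_iff (AddMonoid.End B) p n)
    constructor
    · intro h
      have h1 := DFunLike.congr_fun h (1 : AddMonoid.End B)
      rw [AddMonoid.End.natCast_apply, nsmul_one] at h1
      exact h1
    · intro h
      ext x : 1
      show (n : AddMonoid.End (AddMonoid.End B)) x = 0
      rw [AddMonoid.End.natCast_apply, nsmul_eq_mul, h, zero_mul]⟩
  have hc : Commute L R := AddMonoidHom.ext fun x => (mul_assoc d x d).symm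
  have hL : ∀ n x, (L ^ n) x = d ^ n * x := fun n => by
    induction n with
    | zero => intro x; rw [pow_zero, pow_zero, one_mul]; rfl
    | succ n ih => intro x; rw [pow_succ, pow_succ, mul_assoc]; exact ih (d * x)
  have hR : ∀ n x, (R ^ n) x = x * d ^ n := fun n => by
    induction n with
    | zero => intro x; rw [pow_zero, pow_zero, mul_one]; rfl
    | succ n ih => intro x; rw [pow_succ, pow_succ', ← mul_assoc]; exact ih (x * d)
  let m : B → AddMonoid.End B := AddMonoidHom.mulLeft
  have hLR : ∀ c, (L - R) (m c) = m (D c) := fun c => by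
    ext x
    show D (c * x) - c * D x = D c * x
    rw [D.leibniz, smul_eq_mul, smul_eq_mul]
    ring
  have hn : ∀ n c, ((L - R) ^ n) (m c) = m ((⇑D)^[n] c) := fun n => by
    induction n with
    | zero => intro c; rw [pow_zero]; rfl
    | succ n ih =>
      intro c
      rw [pow_succ, Function.iterate_succ_apply]
      show ((L - R) ^ n) ((L - R) (m c)) = _
      rw [hLR, ih]
  have key := DFunLike.congr_fun (hn p a) b
  rw [sub_pow_char_of_commute p hc] at key
  have e : ((L ^ p - R ^ p) (m a) : AddMonoid.End B) = d ^ p * m a - m a * d ^ p := by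
    rw [← hL, ← hR]; rfl
  rw [e] at key
  have hd : ∀ n x, (d ^ n) x = (⇑D)^[n] x := fun n => by
    induction n with
    | zero => intro x; rfl
    | succ n ih => intro x; rw [pow_succ, Function.iterate_succ_apply]; exact ih (D x)
  change (d ^ p) (a * b) - a * (d ^ p) b = (⇑D)^[p] a * b at key
  rw [hd, hd, sub_eq_iff_eq_add] at key
  rw [key]
  ring

/-- The `p`-th iterate of a derivation in characteristic `p`. -/
def iterPow (p : ℕ) [Fact p.Prime] [CharP B p] (D : Derivation A B B) : Derivation A B B :=
  Derivation.mk' ((D : B →ₗ[A] B) ^ p) fun a b => by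
    simp only [Module.End.pow_apply, smul_eq_mul]
    exact derivation_pow_leibniz p D a b

lemma iterPow_apply (p : ℕ) [Fact p.Prime] [CharP B p] (D : Derivation A B B) (b : B) :
    iterPow p D b = (⇑D)^[p] b := Module.End.pow_apply _ p b

variable {C : Type*} [CommRing C] (D : C → C) (f : C)

/-- The coefficients of `(f • e)^n` in powers of `e`. -/
def coef : ℕ → ℕ → C
  | 0, i => if i = 0 then 1 else 0
  | n + 1, 0 => f * D (coef n 0)
  | n + 1, i + 1 => f * coef n i + f * D (coef n (i + 1))

variable (hD0 : D 0 = 0)

include hD0 in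
lemma coef_eq_zero : ∀ (n i : ℕ), n < i → coef D f n i = 0
  | 0, i, h => if_neg (by omega)
  | n + 1, 0, h => by omega
  | n + 1, i + 1, h => by
    show f * coef D f n i + f * D (coef D f n (i + 1)) = 0
    rw [coef_eq_zero n i (by omega), coef_eq_zero n (i + 1) (by omega), hD0, mul_zero, add_zero]

include hD0 in
lemma coef_self : ∀ n : ℕ, coef D f n n = f ^ n
  | 0 => by rw [pow_zero]; exact if_pos rfl
  | n + 1 => by
    show f * coef D f n n + f * D (coef D f n (n + 1)) = _
    rw [coef_self n, coef_eq_zero D f hD0 n (n + 1) (by omega), hD0, mul_zero, add_zero, pow_succ']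

lemma coef_map {C' : Type*} [CommRing C'] (D' : C' → C') (φ : C →+* C') (h : ∀ c, φ (D c) = D' (φ c)) :
    ∀ n i : ℕ, φ (coef D f n i) = coef D' (φ f) n i
  | 0, i => by
    show φ (if i = 0 then 1 else 0) = if i = 0 then 1 else 0
    split_ifs <;> simp
  | n + 1, 0 => by
    show φ (f * D _) = φ f * D' _
    rw [map_mul, h, coef_map D' φ h n 0]
  | n + 1, i + 1 => by
    show φ (f * _ + f * D _) = φ f * _ + φ f * D' _
    rw [map_add, map_mul, map_mul, h, coef_map D' φ h n i, coef_map D' φ h n (i + 1)]

lemma coef_zero (hD1 : D 1 = 0) (hD0 : D 0 = 0) : ∀ n : ℕ, coef D f (n + 1) 0 = 0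
  | 0 => by show f * D (if 0 = 0 then 1 else 0) = 0; rw [if_pos rfl, hD1, mul_zero]
  | n + 1 => by show f * D (coef D f (n + 1) 0) = 0; rw [coef_zero hD1 hD0 n, hD0, mul_zero]

variable {M : Type*} [AddCommGroup M] [Module C M] (e : M →+ M)
  (he : ∀ (c : C) (m : M), e (c • m) = c • e m + D c • m)

include he hD0 in
lemma expansion : ∀ (n : ℕ) (m : M),
    (fun x => f • e x)^[n] m = ∑ i ∈ range (n + 1), coef D f n i • (⇑e)^[i] m
  | 0, m => by simp [coef]
  | n + 1, m => by
    rw [Function.iterate_succ_apply', expansion n m, map_sum, smul_sum, sum_range_succ' _ (n + 1)]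
    simp only [he, smul_add, sum_add_distrib, smul_smul, ← Function.iterate_succ_apply' (⇑e)]
    have hsplit : ∑ i ∈ range (n + 1), (f * D (coef D f n i)) • (⇑e)^[i] m =
        ∑ i ∈ range (n + 1), (f * D (coef D f n (i + 1))) • (⇑e)^[i + 1] m + (f * D (coef D f n 0)) • m := by
      have h1 := Finset.sum_range_succ' (fun i => (f * D (coef D f n i)) • (⇑e)^[i] m) (n + 1)
      have h2 := Finset.sum_range_succ (fun i => (f * D (coef D f n i)) • (⇑e)^[i] m) (n + 1)
      rw [coef_eq_zero D f hD0 n (n + 1) (by omega), hD0, mul_zero, zero_smul, add_zero] at h2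
      exact h2.symm.trans h1
    rw [hsplit, ← add_assoc, ← sum_add_distrib]
    refine congrArg₂ (· + ·) (sum_congr rfl fun i _ => ?_) rfl
    exact (add_smul _ _ _).symm

variable (p : ℕ) [Fact p.Prime]

/-- Differential polynomials in one variable, with an auxiliary variable of derivative one. -/
abbrev U : Type := MvPolynomial (Option ℕ) (ZMod p)

/-- The derivation of `U`. -/
def dU : Derivation (ZMod p) (U p) (U p) :=
  MvPolynomial.mkDerivation _ fun o => o.elim 1 fun k => MvPolynomial.X (some (k + 1))

/-- Differential polynomials in one variable. -/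
abbrev S : Type := MvPolynomial ℕ (ZMod p)

/-- The derivation of `S`. -/
def dS : Derivation (ZMod p) (S p) (S p) :=
  MvPolynomial.mkDerivation _ fun k => MvPolynomial.X (k + 1)

lemma commute_dS {T : Type*} [CommRing T] (φ : S p →+* T) {A' : Type*} [CommRing A'] [Algebra A' T]
    (D' : Derivation A' T T) (h : ∀ k, D' (φ (MvPolynomial.X k)) = φ (MvPolynomial.X (k + 1))) (s : S p) :
    φ (dS p s) = D' (φ s) := by
  induction s using MvPolynomial.induction_on with
  | C a =>
    rw [← ZMod.natCast_zmod_val a, map_natCast, Derivation.map_natCast, map_zero, map_natCast, Derivation.map_natCast]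
  | add a b ha hb => rw [map_add, map_add, ha, hb, map_add, map_add]
  | mul_X a k ha =>
    rw [Derivation.leibniz, map_add, smul_eq_mul, smul_eq_mul, map_mul, map_mul, ha, map_mul,
      Derivation.leibniz, smul_eq_mul, smul_eq_mul, dS, MvPolynomial.mkDerivation_X, h]

theorem coef_vanish (i : ℕ) (h2 : 2 ≤ i) (hi : i < p) : coef (dS p) (MvPolynomial.X 0) p i = 0 := by
  haveI : CharP (U p) p := inferInstance
  let ι : S p →+* U p := (MvPolynomial.rename (R := ZMod p) (Option.some : ℕ → Option ℕ)).toRingHom
  have hι : Function.Injective ι := MvPolynomial.rename_injective _ (Option.some_injective ℕ)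
  have hcomm : ∀ s, ι (dS p s) = dU p (ι s) := commute_dS p ι (dU p) fun k => by
    simp [ι, dU]
  let f' : U p := ι (MvPolynomial.X 0)
  refine hι ?_
  rw [map_zero, coef_map _ _ (dU p) ι hcomm]
  show coef (dU p) f' p i = 0
  let x : U p := MvPolynomial.X none
  have hx : dU p x = 1 := by simp [dU, x]
  have hxj : ∀ k j : ℕ, (⇑(dU p))^[k] (x ^ j) = (j.descFactorial k : U p) * x ^ (j - k) := by
    intro k
    induction k with
    | zero => intro j; simp
    | succ k ih =>
      intro j
      rw [Function.iterate_succ_apply', ih, Derivation.leibniz, Derivation.map_natCast, smul_zero, add_zero,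
        Derivation.leibniz_pow, hx, smul_eq_mul, Nat.descFactorial_succ, Nat.sub_add_eq, nsmul_eq_mul, smul_eq_mul]
      push_cast
      ring
  let Op : Derivation (ZMod p) (U p) (U p) := iterPow p (f' • dU p)
  have hOp : ∀ u, Op u = ∑ k ∈ range (p + 1), coef (dU p) f' p k * (⇑(dU p))^[k] u := fun u => by
    rw [iterPow_apply]
    exact expansion (C := U p) (M := U p) (dU p) f' (map_zero _) (dU p : U p →ₗ[ZMod p] U p).toAddMonoidHom
      (fun c m => (Derivation.leibniz (dU p) c m).trans (by simp only [smul_eq_mul]; ring_nf; rfl)) p u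
  have hsum : ∀ j : ℕ, 1 ≤ j → j < p → (∀ k, 2 ≤ k → k < j → coef (dU p) f' p k = 0) →
      Op (x ^ j) = coef (dU p) f' p 1 * ((j : U p) * x ^ (j - 1)) +
        (if j = 1 then 0 else coef (dU p) f' p j * (j.factorial : U p)) := by
    intro j hj1 hjp hlow
    rw [hOp, ← Finset.sum_subset (s₁ := {1, j})
      (fun k hk => by simp only [mem_insert, mem_singleton] at hk; simp only [mem_range]; omega)
      (fun k hk hk' => ?_)]
    · by_cases hj : j = 1
      · subst hj; simp [hxj, hx]
      · rw [sum_pair (Ne.symm hj), if_neg hj, hxj, hxj, Nat.descFactorial_one, Nat.descFactorial_self, Nat.sub_self,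
          pow_zero, mul_one]
    · simp only [mem_range, mem_insert, mem_singleton, not_or] at hk hk'
      obtain ⟨hk1, hkj⟩ := hk'
      have hkp := hk
      rw [hxj]
      rcases Nat.eq_zero_or_pos k with rfl | hk0
      · obtain ⟨q, hq⟩ : ∃ q, p = q + 1 := ⟨p - 1, by omega⟩
        rw [show coef (dU p) f' p 0 = coef (dU p) f' (q + 1) 0 from congrArg (fun r => coef (dU p) f' r 0) hq,
          coef_zero (dU p) f' (Derivation.map_one_eq_zero _) (map_zero _) q, zero_mul]
      · rcases lt_or_gt_of_ne hkj with hlt | hgt
        · rw [hlow k (by omega) hlt, zero_mul]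
        · rw [Nat.descFactorial_eq_zero_iff_lt.2 hgt, Nat.cast_zero, zero_mul, mul_zero]
  induction i using Nat.strong_induction_on with
  | _ i ih =>
    have h1 := hsum i (by omega) hi fun k hk hki => ih k hki hk (by omega)
    have hOx := hsum 1 le_rfl (by omega) (fun k hk hk1 => by omega)
    rw [if_pos rfl, add_zero, Nat.cast_one, one_mul, pow_one, Nat.sub_self, pow_zero, mul_one] at hOx
    rw [Derivation.leibniz_pow, hOx, if_neg (by omega), smul_eq_mul, nsmul_eq_mul] at h1
    have h3 : coef (dU p) f' p i * (i.factorial : U p) = 0 := by linear_combination -h1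
    refine (mul_eq_zero.1 h3).resolve_right fun h => ?_
    rw [CharP.cast_eq_zero_iff (U p) p, (Fact.out : p.Prime).dvd_factorial] at h
    omega

/-- The map from differential polynomials. -/
def evalS [CharP B p] (D : Derivation A B B) (f : B) : S p →+* B :=
  MvPolynomial.eval₂Hom (ZMod.castHom (dvd_refl p) B) fun k => (⇑D)^[k] f

/-- Hochschild's formula. -/
theorem pow_smul_apply [CharP B p] (D : Derivation A B B) (f : B) {N : Type*} [AddCommGroup N] [Module B N]
    (e : N →+ N) (he : ∀ (c : B) (m : N), e (c • m) = c • e m + D c • m) (m : N) :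
    (fun x => f • e x)^[p] m = f ^ p • (⇑e)^[p] m + coef D f p 1 • e m := by
  rw [expansion (C := B) D f (map_zero D) e he p m]
  have hp : 2 ≤ p := (Fact.out : p.Prime).two_le
  rw [← Finset.sum_subset (s₁ := {1, p})
    (fun k hk => by simp only [mem_insert, mem_singleton] at hk; simp only [mem_range]; omega)
    (fun k hk hk' => ?_), sum_pair (by omega), coef_self D f (map_zero D), Function.iterate_one, add_comm]
  simp only [mem_range, mem_insert, mem_singleton, not_or] at hk hk'
  obtain ⟨hk1, hkp'⟩ := hk'
  rcases Nat.eq_zero_or_pos k with rfl | hk0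
  · obtain ⟨q, hq⟩ : ∃ q, p = q + 1 := ⟨p - 1, by omega⟩
    rw [show coef D f p 0 = coef D f (q + 1) 0 from congrArg (fun r => coef D f r 0) hq,
      coef_zero D f (Derivation.map_one_eq_zero _) (map_zero _) q, zero_smul]
  · have hX : evalS p D f (MvPolynomial.X 0) = f := by simp [evalS]
    have := coef_map (dS p) (MvPolynomial.X 0) D (evalS p D f)
      (commute_dS p _ D fun k => by simp [evalS, Function.iterate_succ_apply']) p k
    rw [hX, coef_vanish p k (by omega) (by omega), map_zero] at this
    rw [← this, zero_smul]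

end Groth.Agent.Hochschild
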